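import Cfsg.Agent.H823.O8R.Defs
import Cfsg.Agent.S0293
import Cfsg.Agent.S2607
import Cfsg.Agent.S2608

/-!
# S3691, row `PΩ⁺₈(q)`: the numbers (helper832)

* `card_t8` : `|PΩ⁺₈(q)| (2, q - 1)² = q¹² (q² - 1) (q⁴ - 1)² (q⁶ - 1)`;
* `val_p`, `val_r`, `not_dvd_out` : the parts of `|T|` and `|Out(T)|` at the primes `p`, `r`, `s`, `t`.
-/

set_option autoImplicit false

namespace Cfsg.Agent.H832.O8R

open Cfsg Cfsg.Agent.H823.O8R Cfsg.Agent.H823.O8S
open Cfsg.Agent.H708.O8 (I8 T8 RB)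
open Cfsg.Agent.H436 (Prim)

section arith

theorem gcd_sq {q : ℕ} (hq : 2 ≤ q) : Nat.gcd 4 (q ^ 4 - 1) = (Nat.gcd 2 (q - 1)) ^ 2 := by
  rcases Nat.even_or_odd q with h | h
  · obtain ⟨k, rfl⟩ := h
    have h1 : Nat.gcd 2 (k + k - 1) = 1 := by
      rw [Nat.coprime_two_left.2 (by rw [Nat.odd_iff]; omega)]
    have h2 : Nat.gcd 4 ((k + k) ^ 4 - 1) = 1 := by
      have h3 : Nat.Coprime 2 ((k + k) ^ 4 - 1) := by
        rw [Nat.coprime_two_left]
        have h4 : (k + k) ^ 4 = 2 * (8 * k ^ 4) := by ring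
        have h5 : 1 ≤ k ^ 4 := Nat.one_le_pow _ _ (by omega)
        rw [h4, Nat.odd_iff]
        omega
      exact Nat.Coprime.pow_left 2 h3
    rw [h1, h2, one_pow]
  · obtain ⟨k, rfl⟩ := h
    have h1 : Nat.gcd 2 (2 * k + 1 - 1) = 2 := Nat.gcd_eq_left ⟨k, by omega⟩
    have h2 : Nat.gcd 4 ((2 * k + 1) ^ 4 - 1) = 4 := by
      apply Nat.gcd_eq_left
      refine ⟨4 * k ^ 4 + 8 * k ^ 3 + 6 * k ^ 2 + 2 * k, ?_⟩
      have h3 : (2 * k + 1) ^ 4 = 4 * (4 * k ^ 4 + 8 * k ^ 3 + 6 * k ^ 2 + 2 * k) + 1 := by ring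
      rw [h3, Nat.add_sub_cancel]
    rw [h1, h2]
    norm_num

/-- `r ≡ 1` modulo the order -/
theorem dvd_sub_one {p e l : ℕ} (h : Prim p e l) : e ∣ l - 1 := by
  have : Fact l.Prime := ⟨h.prime⟩
  rw [← h.dvd_iff]
  have h1 : Nat.Coprime p l := ((Nat.Prime.coprime_iff_not_dvd h.prime).2 h.not_dvd).symm
  have h2 := Nat.ModEq.pow_totient h1
  rw [Nat.totient_prime h.prime] at h2
  have hp0 : 0 < p := by
    rcases Nat.eq_zero_or_pos p with h0 | h0
    · exact absurd (h0 ▸ dvd_zero l) h.not_dvd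
    · exact h0
  exact (Nat.modEq_iff_dvd' (Nat.one_le_pow _ _ hp0)).1 h2.symm

theorem lt_of_prim {p e l : ℕ} (h : Prim p e l) : e < l := by
  have h1 := Nat.le_of_dvd (Nat.sub_pos_of_lt h.prime.one_lt) (dvd_sub_one h)
  have := h.prime.one_lt
  omega

theorem not_dvd_24 {p e l a : ℕ} (h : Prim p e l) (he : 3 ≤ e) (ha1 : 1 ≤ a) (ha : a ≤ e) (c : ℕ) (hc : c ∣ 24) :
    ¬ l ∣ c * a := by
  intro h1
  have h2 := lt_of_prim h
  rcases (Nat.Prime.dvd_mul h.prime).1 h1 with h3 | h3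
  · have h4 := h3.trans hc
    rw [show (24 : ℕ) = 2 ^ 3 * 3 from rfl, Nat.Prime.dvd_mul h.prime] at h4
    rcases h4 with h5 | h5
    · have := (Nat.prime_dvd_prime_iff_eq h.prime Nat.prime_two).1 (h.prime.dvd_of_dvd_pow h5)
      omega
    · have := (Nat.prime_dvd_prime_iff_eq h.prime Nat.prime_three).1 h5
      omega
  · have := Nat.le_of_dvd ha1 h3
    omega

theorem coprime_gcd {p e l n : ℕ} (h : Prim p e l) (he : 3 ≤ e) : Nat.Coprime l (Nat.gcd 2 n ^ 2) := by
  apply Nat.Coprime.pow_right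
  apply Nat.Coprime.coprime_dvd_right (Nat.gcd_dvd_left 2 n)
  rw [Nat.Prime.coprime_iff_not_dvd h.prime]
  intro h1
  have := (Nat.prime_dvd_prime_iff_eq h.prime Nat.prime_two).1 h1
  have := lt_of_prim h
  omega

end arith

variable {F : Type} [Field F] [Fintype F] {p a r b s k t : ℕ}

/-- **The order.** -/
theorem card_t8 (hF : Nat.card F = p ^ a) : Nat.card (T8 F) * (Nat.gcd 2 (p ^ a - 1)) ^ 2 =
    (p ^ a) ^ 12 * ((p ^ a) ^ 2 - 1) * ((p ^ a) ^ 4 - 1) ^ 2 * ((p ^ a) ^ 6 - 1) := by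
  have hq : 2 ≤ p ^ a := by
    rw [← hF]
    exact Finite.one_lt_card
  have h1 := S0293.result (F := F) (q := p ^ a) (by rw [← Nat.card_eq_fintype_card, hF]) 4 le_rfl
  rw [gcd_sq hq] at h1
  rw [mul_comm, h1]
  simp only [Finset.prod_range_succ, Finset.prod_range_zero]
  norm_num
  ring

theorem card_out (hF : Nat.card F = p ^ a) (hp : p.Prime) (ha : 1 ≤ a) :
    Nat.card (Cfsg.Out (T8 F)) = (if p = 2 then 6 else 24) * a := by
  have hF' : Fintype.card F = p ^ a := by rw [← Nat.card_eq_fintype_card, hF]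
  have : NeZero a := ⟨by omega⟩
  by_cases h2 : p = 2
  · subst h2
    have h1 := S2607.result (F := F) (m := 4) ha hF' le_rfl
    rw [if_pos rfl] at h1
    obtain ⟨e⟩ := h1
    rw [if_pos rfl, Nat.card_congr e.toEquiv, Nat.card_prod, Nat.card_perm, Nat.card_fin]
    congr 1
    exact Nat.card_zmod a
  · have : Fact p.Prime := ⟨hp⟩
    have h1 := S2608.result (F := F) (m := 4) ha hF' h2 le_rfl
    rw [if_pos rfl] at h1
    obtain ⟨e⟩ := h1
    rw [if_neg h2, Nat.card_congr e.toEquiv, Nat.card_prod, Nat.card_perm, Nat.card_fin]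
    congr 1
    exact Nat.card_zmod a

section

variable (h : Nm p a r b s k t)
include h

theorem not_dvd_pow_sub {m : ℕ} (hm : 1 ≤ m) : ¬ p ∣ (p ^ a) ^ m - 1 := by
  intro h1
  have h2 : p ∣ (p ^ a) ^ m := by
    rw [← pow_mul]
    exact dvd_pow_self p (Nat.mul_ne_zero (by have := h.rb.ha; omega) (by omega))
  have h3 : p ∣ 1 := by
    have h4 := Nat.dvd_sub h2 h1
    rwa [Nat.sub_sub_self (Nat.one_le_pow _ _ (pow_pos h.rb.hp.pos _))] at h4
  exact h.rb.hp.one_lt.ne' (Nat.dvd_one.1 h3)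

theorem val_p (hF : Nat.card F = p ^ a) : (Nat.card (T8 F)).factorization p = 12 * a ∧
    (Nat.card (Cfsg.Out (T8 F))).factorization p ≤ a.factorization p + (if p = 2 then 1 else if p = 3 then 1 else 0) := by
  have hp := h.rb.hp
  have ha := h.rb.ha
  have hq : 2 ≤ p ^ a := by
    rw [← hF]
    exact Finite.one_lt_card
  have hc := card_t8 hF
  have hpos : ∀ m, 1 ≤ m → (p ^ a) ^ m - 1 ≠ 0 := by
    intro m hm
    have := Nat.one_lt_pow (show m ≠ 0 by omega) hq
    omega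
  constructor
  · have hd : Nat.gcd 2 (p ^ a - 1) ≠ 0 := Nat.gcd_ne_zero_left (by norm_num)
    have hd0 : (Nat.gcd 2 (p ^ a - 1)).factorization p = 0 := by
      apply Nat.factorization_eq_zero_of_not_dvd
      intro h1
      apply not_dvd_pow_sub h (m := 1) le_rfl
      rw [pow_one]
      exact h1.trans (Nat.gcd_dvd_right _ _)
    have hz : ∀ m, 1 ≤ m → ((p ^ a) ^ m - 1).factorization p = 0 := fun m hm =>
      Nat.factorization_eq_zero_of_not_dvd (not_dvd_pow_sub h hm)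
    have h1 : (Nat.card (T8 F) * (Nat.gcd 2 (p ^ a - 1)) ^ 2).factorization p =
        ((p ^ a) ^ 12 * ((p ^ a) ^ 2 - 1) * ((p ^ a) ^ 4 - 1) ^ 2 * ((p ^ a) ^ 6 - 1)).factorization p := by rw [hc]
    have hT : Nat.card (T8 F) ≠ 0 := by
      intro h0
      rw [h0, zero_mul] at hc
      exact mul_ne_zero (mul_ne_zero (mul_ne_zero (pow_ne_zero _ (by omega)) (hpos 2 (by norm_num)))
        (pow_ne_zero _ (hpos 4 (by norm_num)))) (hpos 6 (by norm_num)) hc.symm
    rw [Nat.factorization_mul hT (pow_ne_zero _ hd), Nat.factorization_pow,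
      Nat.factorization_mul (mul_ne_zero (mul_ne_zero (pow_ne_zero _ (by omega)) (hpos 2 (by norm_num)))
        (pow_ne_zero _ (hpos 4 (by norm_num)))) (hpos 6 (by norm_num)),
      Nat.factorization_mul (mul_ne_zero (pow_ne_zero _ (by omega)) (hpos 2 (by norm_num)))
        (pow_ne_zero _ (hpos 4 (by norm_num))),
      Nat.factorization_mul (pow_ne_zero _ (by omega)) (hpos 2 (by norm_num)), Nat.factorization_pow,
      Nat.factorization_pow, Nat.factorization_pow] at h1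
    simp only [Finsupp.add_apply, Finsupp.smul_apply, smul_eq_mul, hd0, hz 2 (by norm_num), hz 4 (by norm_num),
      hz 6 (by norm_num), hp.factorization_self] at h1
    omega
  · rw [card_out hF hp ha]
    by_cases h2 : p = 2
    · subst h2
      rw [if_pos rfl, if_pos rfl, Nat.factorization_mul (by norm_num) (by omega), Finsupp.add_apply]
      have h3 : (6 : ℕ).factorization 2 = 1 := by
        rw [show (6 : ℕ) = 2 * 3 from rfl, Nat.factorization_mul (by norm_num) (by norm_num), Finsupp.add_apply,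
          Nat.prime_two.factorization_self, Nat.factorization_eq_zero_of_not_dvd (by norm_num)]
      omega
    · rw [if_neg h2, if_neg h2, Nat.factorization_mul (by norm_num) (by omega), Finsupp.add_apply]
      by_cases h3 : p = 3
      · subst h3
        rw [if_pos rfl]
        have h4 : (24 : ℕ).factorization 3 = 1 := by
          rw [show (24 : ℕ) = 3 * 8 from rfl, Nat.factorization_mul (by norm_num) (by norm_num), Finsupp.add_apply,
            Nat.prime_three.factorization_self, Nat.factorization_eq_zero_of_not_dvd (by norm_num)]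
        omega
      · rw [if_neg h3]
        have h4 : (24 : ℕ).factorization p = 0 := by
          apply Nat.factorization_eq_zero_of_not_dvd
          intro h5
          rw [show (24 : ℕ) = 2 ^ 3 * 3 from rfl, Nat.Prime.dvd_mul hp] at h5
          rcases h5 with h5 | h5
          · exact h2 ((Nat.prime_dvd_prime_iff_eq hp Nat.prime_two).1 (hp.dvd_of_dvd_pow h5))
          · exact h3 ((Nat.prime_dvd_prime_iff_eq hp Nat.prime_three).1 h5)
        omega

theorem val_r (hF : Nat.card F = p ^ a) : (Nat.card (T8 F)).factorization r = 2 * b ∧ s ^ k ∣ Nat.card (T8 F) ∧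
    t ∣ Nat.card (T8 F) := by
  have hp := h.rb.hp
  have ha := h.rb.ha
  have hq : 2 ≤ p ^ a := by
    rw [← hF]
    exact Finite.one_lt_card
  have hc := card_t8 hF
  have hpos : ∀ m, 1 ≤ m → (p ^ a) ^ m - 1 ≠ 0 := by
    intro m hm
    have := Nat.one_lt_pow (show m ≠ 0 by omega) hq
    omega
  have hsix : (p ^ a) ^ 6 - 1 = (p ^ (3 * a) + 1) * (p ^ (3 * a) - 1) := by
    rw [← pow_mul, show a * 6 = 3 * a * 2 from by ring, pow_mul]
    exact Nat.sq_sub_sq (p ^ (3 * a)) 1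
  refine ⟨?_, ?_, ?_⟩
  · have hr := h.rb.prim
    have hd : Nat.gcd 2 (p ^ a - 1) ≠ 0 := Nat.gcd_ne_zero_left (by norm_num)
    have hd0 : ((Nat.gcd 2 (p ^ a - 1)) ^ 2).factorization r = 0 :=
      Nat.factorization_eq_zero_of_not_dvd fun h1 => hr.prime.one_lt.ne' (Nat.dvd_one.1
        ((coprime_gcd hr (by omega)) ▸ Nat.dvd_gcd dvd_rfl h1))
    have hz : ∀ m, ¬ 4 * a ∣ a * m → ((p ^ a) ^ m - 1).factorization r = 0 := fun m hm =>
      Nat.factorization_eq_zero_of_not_dvd (by rw [← pow_mul]; exact hr.not_dvd_sub hm)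
    have hz2 : ((p ^ a) ^ 2 - 1).factorization r = 0 := hz 2 fun h1 => by
      have := Nat.le_of_dvd (by omega) h1
      omega
    have hz6 : ((p ^ a) ^ 6 - 1).factorization r = 0 := hz 6 fun h1 => by
      rw [mul_comm 4 a] at h1
      have := Nat.dvd_of_mul_dvd_mul_left (by omega) h1
      omega
    have hz0 : ((p ^ a) ^ 12).factorization r = 0 :=
      Nat.factorization_eq_zero_of_not_dvd (by rw [← pow_mul]; exact hr.not_dvd_pow _)
    have hfour : (p ^ a) ^ 4 - 1 = ((p ^ a) ^ 2 + 1) * ((p ^ a) ^ 2 - 1) := by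
      have := Nat.sq_sub_sq ((p ^ a) ^ 2) 1
      rw [one_pow, ← pow_mul] at this
      exact this
    have hb : ((p ^ a) ^ 2 + 1).factorization r = b := by
      have e1 : (p ^ a) ^ 2 + 1 = p ^ (2 * a) + 1 := by rw [← pow_mul, mul_comm a 2]
      rw [e1]
      have h1 := (hr.prime.pow_dvd_iff_le_factorization (Nat.succ_ne_zero (p ^ (2 * a)))).1 h.rb.dvd
      have h2 := mt (hr.prime.pow_dvd_iff_le_factorization (Nat.succ_ne_zero (p ^ (2 * a)))).2 h.rb.not_dvd
      simp only [Nat.succ_eq_add_one] at h1 h2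
      omega
    have h4 : ((p ^ a) ^ 4 - 1).factorization r = b := by
      rw [hfour, Nat.factorization_mul (Nat.succ_ne_zero _) (hpos 2 (by norm_num)), Finsupp.add_apply, hb, hz2,
        add_zero]
    have h1 : (Nat.card (T8 F) * (Nat.gcd 2 (p ^ a - 1)) ^ 2).factorization r =
        ((p ^ a) ^ 12 * ((p ^ a) ^ 2 - 1) * ((p ^ a) ^ 4 - 1) ^ 2 * ((p ^ a) ^ 6 - 1)).factorization r := by rw [hc]
    have hT : Nat.card (T8 F) ≠ 0 := by
      intro h0
      rw [h0, zero_mul] at hc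
      exact mul_ne_zero (mul_ne_zero (mul_ne_zero (pow_ne_zero _ (by omega)) (hpos 2 (by norm_num)))
        (pow_ne_zero _ (hpos 4 (by norm_num)))) (hpos 6 (by norm_num)) hc.symm
    rw [Nat.factorization_mul hT (pow_ne_zero _ hd),
      Nat.factorization_mul (mul_ne_zero (mul_ne_zero (pow_ne_zero _ (by omega)) (hpos 2 (by norm_num)))
        (pow_ne_zero _ (hpos 4 (by norm_num)))) (hpos 6 (by norm_num)),
      Nat.factorization_mul (mul_ne_zero (pow_ne_zero _ (by omega)) (hpos 2 (by norm_num)))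
        (pow_ne_zero _ (hpos 4 (by norm_num))),
      Nat.factorization_mul (pow_ne_zero _ (by omega)) (hpos 2 (by norm_num)), Finsupp.add_apply,
      Finsupp.add_apply, Finsupp.add_apply, Finsupp.add_apply, hd0, hz0, hz2, hz6,
      Nat.factorization_pow ((p ^ a) ^ 4 - 1) 2, Finsupp.smul_apply, h4, smul_eq_mul] at h1
    omega
  · have h1 : s ^ k ∣ Nat.card (T8 F) * (Nat.gcd 2 (p ^ a - 1)) ^ 2 := by
      rw [hc, hsix]
      exact (h.rk.dvd.mul_right _).mul_left _
    exact Nat.Coprime.dvd_of_dvd_mul_right ((coprime_gcd h.rk.prim (by omega)).pow_left k) h1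
  · have h1 : t ∣ Nat.card (T8 F) * (Nat.gcd 2 (p ^ a - 1)) ^ 2 := by
      rw [hc, hsix]
      exact ((h.t.dvd dvd_rfl).mul_left _).mul_left _
    exact Nat.Coprime.dvd_of_dvd_mul_right (coprime_gcd h.t (by omega)) h1

theorem not_dvd_out (hF : Nat.card F = p ^ a) : ¬ r ∣ Nat.card (Cfsg.Out (T8 F)) ∧
    ¬ s ∣ Nat.card (Cfsg.Out (T8 F)) ∧ ¬ t ∣ Nat.card (Cfsg.Out (T8 F)) := by
  have ha := h.rb.ha
  rw [card_out hF h.rb.hp ha]
  have hc : (if p = 2 then 6 else 24) ∣ 24 := by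
    by_cases h2 : p = 2
    · rw [if_pos h2]; norm_num
    · rw [if_neg h2]
  exact ⟨not_dvd_24 h.rb.prim (by omega) ha (by omega) _ hc, not_dvd_24 h.rk.prim (by omega) ha (by omega) _ hc,
    not_dvd_24 h.t (by omega) ha (by omega) _ hc⟩

end

end Cfsg.Agent.H832.O8R
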